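import Mathlib.RingTheory.Etale.StandardEtale
import Mathlib.RingTheory.Unramified.LocalRing
import Mathlib.RingTheory.Unramified.LocalStructure
import Mathlib.RingTheory.LocalRing.Module
import Mathlib.RingTheory.Smooth.Fiber
import Mathlib.RingTheory.LocalRing.Quotient
import Mathlib.FieldTheory.PurelyInseparable.PerfectClosure
import Mathlib.FieldTheory.PrimitiveElement

/-!
# Galois descent of a finite étale local algebra with residually trivial group action

`B → A` is finite étale, both local, a finite group acts on both compatibly, fixing exactly `C` in `B` and acting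
trivially on the residue field of `A`; then the fixed ring of `A` is standard étale over `C`.
-/

set_option autoImplicit false
set_option linter.style.haveILetI false

universe u

open Polynomial IsLocalRing

namespace Groth.Agent.InvEtale25

/-- A residue class, raised to a suitable power of the residue exponential characteristic, lifts to an invariant. -/
theorem exists_fixed_lift_pow {A : Type u} [CommRing A] [IsLocalRing A] {H : Type*} [Group H] [Fintype H]
    (σ : H →* (A ≃+* A)) (hres : ∀ h a, σ h a - a ∈ maximalIdeal A) (q : ℕ) [ExpChar (ResidueField A) q] (a₀ : A) :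
    ∃ (n : ℕ) (a : A), (∀ h, σ h a = a) ∧ residue A a = residue A a₀ ^ q ^ n := by
  classical
  have hm : ∃ n m : ℕ, Fintype.card H = q ^ n * m ∧ (m : ResidueField A) ≠ 0 := by
    cases ‹ExpChar (ResidueField A) q› with
    | zero => exact ⟨0, Fintype.card H, by simp, Nat.cast_ne_zero.2 (Fintype.card_ne_zero (α := H))⟩
    | prime hq =>
      obtain ⟨n, m, hm, hc⟩ := Nat.exists_eq_pow_mul_and_not_dvd (Fintype.card_ne_zero (α := H)) q hq.ne_one
      exact ⟨n, m, hc, fun h => hm ((CharP.cast_eq_zero_iff (ResidueField A) q m).1 h)⟩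
  obtain ⟨n, m, hc, hm⟩ := hm
  let pol : A[X] := ∏ h : H, (X - C (σ h a₀))
  have hpol : ∀ g, pol.map (σ g).toRingHom = pol := fun g => by
    simp only [pol, Polynomial.map_prod, Polynomial.map_sub, map_X, map_C]
    refine Fintype.prod_bijective (fun h => g * h) (Group.mulLeft_bijective g) _ _ fun h => ?_
    simp
  have hmap : pol.map (residue A) = (X ^ q ^ n - C (residue A a₀ ^ q ^ n)) ^ m := by
    simp only [pol, Polynomial.map_prod, Polynomial.map_sub, map_X, map_C]
    rw [Finset.prod_congr rfl fun h _ => show X - C (residue A (σ h a₀)) = X - C (residue A a₀) by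
      rw [show residue A (σ h a₀) = residue A a₀ from Ideal.Quotient.eq.2 (hres h a₀)]]
    rw [Finset.prod_const, Finset.card_univ, hc, pow_mul]
    haveI : ExpChar (ResidueField A)[X] q := inferInstance
    rw [sub_pow_expChar_pow, C_pow]
  have hm0 : m ≠ 0 := fun h => hm (by simp [h])
  obtain ⟨d, rfl⟩ := Nat.exists_eq_succ_of_ne_zero hm0
  let k := d * q ^ n
  have hqpos : 0 < q ^ n := pow_pos (expChar_pos (ResidueField A) q) n
  have hcoe : residue A (pol.coeff k) = ((d + 1 : ℕ) : ResidueField A) * (- residue A a₀ ^ q ^ n) := by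
    rw [← coeff_map, hmap, ← expand_X, show C (residue A a₀ ^ q ^ n) = expand (ResidueField A) (q ^ n)
      (C (residue A a₀ ^ q ^ n)) from (expand_C _ _).symm, ← map_sub, ← map_pow, coeff_expand_mul hqpos,
      sub_eq_add_neg, ← C_neg, coeff_X_add_C_pow]
    simp [mul_comm]
  have hu : IsUnit ((d + 1 : ℕ) : A) := by
    by_contra h
    exact hm (by rw [← map_natCast (residue A)]; exact Ideal.Quotient.eq_zero_iff_mem.2 h)
  obtain ⟨w, hw⟩ := hu
  refine ⟨n, -((w⁻¹ : Aˣ) : A) * pol.coeff k, fun g => ?_, ?_⟩
  · have h1 : σ g (pol.coeff k) = pol.coeff k := by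
      conv_rhs => rw [← hpol g]
      rw [coeff_map]
      rfl
    have h2 : σ g ((w : A)) = w := by rw [hw, map_natCast]
    have h3 : σ g ((w⁻¹ : Aˣ) : A) = ((w⁻¹ : Aˣ) : A) :=
      Units.eq_inv_of_mul_eq_one_right (by nth_rw 1 [← h2]; rw [← map_mul, w.inv_mul, map_one])
    rw [map_mul, map_neg, h1, h3]
  · rw [map_mul, map_neg, hcoe, ← map_natCast (residue A), ← hw, ← mul_assoc, neg_mul, ← map_mul, Units.inv_mul,
      map_one, neg_one_mul, neg_neg]

variable {C₀ B A : Type u} [CommRing C₀] [CommRing B] [CommRing A] [IsLocalRing B] [IsLocalRing A]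
  [Algebra C₀ B] [Algebra B A] [Algebra C₀ A] [IsScalarTower C₀ B A] [Module.Finite B A] [Algebra.Etale B A]

/-- The fixed ring of `A` is standard étale over the fixed ring of `B`. -/
theorem exists_standard {H : Type*} [Group H] [Fintype H] (σ : H →* (A ≃+* A)) (τ : H → B →+* B)
    (hcomp : ∀ h b, σ h (algebraMap B A b) = algebraMap B A (τ h b))
    (hfix : ∀ c h, τ h (algebraMap C₀ B c) = algebraMap C₀ B c)
    (hinv : ∀ b, (∀ h, τ h b = b) → ∃ c, algebraMap C₀ B c = b)
    (hinj : Function.Injective (algebraMap C₀ B))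
    (hres : ∀ h a, σ h a - a ∈ maximalIdeal A) :
    ∃ (P : StandardEtalePair C₀) (φ : P.Ring →ₐ[C₀] A), Function.Injective φ ∧
      ∀ x : A, x ∈ Set.range φ ↔ ∀ h, σ h x = x := by
  haveI : Algebra.IsIntegral B A := Algebra.IsIntegral.of_finite B A
  haveI : IsLocalHom (algebraMap B A) := by
    haveI : (maximalIdeal A).IsMaximal := maximalIdeal.isMaximal A
    refine ((IsLocalRing.local_hom_TFAE _).out 4 0).1 ?_
    exact IsLocalRing.eq_maximalIdeal (Ideal.isMaximal_comap_of_isIntegral_of_isMaximal (maximalIdeal A))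
  haveI : Module.Free B A := Module.free_of_flat_of_isLocalRing
  have hspanmax : (maximalIdeal B).map (algebraMap B A) = maximalIdeal A :=
    Algebra.FormallyUnramified.map_maximalIdeal
  obtain ⟨q, hq⟩ := ExpChar.exists (ResidueField B)
  haveI : ExpChar (ResidueField A) q :=
    expChar_of_injective_algebraMap (algebraMap (ResidueField B) (ResidueField A)).injective q
  obtain ⟨α, hα⟩ := Field.exists_primitive_element (ResidueField B) (ResidueField A)
  obtain ⟨a₀, rfl⟩ := residue_surjective α
  obtain ⟨m, a, hafix, ha⟩ := exists_fixed_lift_pow σ hres q a₀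
  have hprim : IntermediateField.adjoin (ResidueField B) {residue A a} = ⊤ := by
    rw [ha, ← IntermediateField.adjoin_simple_eq_adjoin_pow_expChar_pow_of_isSeparable' _ _ _ q m, hα]
  -- residue basis
  let pb₀ := IntermediateField.adjoin.powerBasis (K := ResidueField B) (L := ResidueField A)
    (Algebra.IsIntegral.isIntegral (residue A a))
  let ρ := (IntermediateField.equivOfEq hprim).trans IntermediateField.topEquiv
  let pb := pb₀.map ρ
  let N := pb.dim
  have hgen : pb.gen = residue A a := rfl
  let v : Fin N → A := fun i => a ^ (i : ℕ)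
  have hspan : ⊤ ≤ Submodule.span B (Set.range v) := by
    refine le_of_eq (Submodule.eq_top_iff'.2 ?_).symm
    have hkey : (⊤ : Submodule B A) ≤ Submodule.span B (Set.range v) ⊔ maximalIdeal B • (⊤ : Submodule B A) := by
      intro x _
      have hmem : residue A x ∈ Submodule.span (ResidueField B) (Set.range pb.basis) := by
        rw [pb.basis.span_eq]; trivial
      obtain ⟨c, hc⟩ := Submodule.mem_span_range_iff_exists_fun _ |>.1 hmem
      choose b hb using fun i => residue_surjective (c i)
      refine Submodule.mem_sup.2 ⟨∑ i, b i • v i, Submodule.sum_mem _ fun i _ =>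
        Submodule.smul_mem _ _ (Submodule.subset_span ⟨i, rfl⟩), x - ∑ i, b i • v i, ?_, add_sub_cancel _ _⟩
      rw [Ideal.smul_top_eq_map, Submodule.restrictScalars_mem, hspanmax, ← Ideal.Quotient.eq_zero_iff_mem]
      show residue A (x - ∑ i, b i • v i) = 0
      rw [map_sub, sub_eq_zero, ← hc, map_sum]
      refine Finset.sum_congr rfl fun i _ => ?_
      rw [pb.basis_eq_pow, hgen, ← hb, Algebra.smul_def, Algebra.smul_def, map_mul, map_pow]
      rfl
    have := Submodule.le_of_le_smul_of_le_jacobson_bot Module.Finite.fg_top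
      (IsLocalRing.jacobson_eq_maximalIdeal ⊥ bot_ne_top).ge hkey
    exact fun x => this trivial
  have hrank : Module.finrank B A = N := by
    have h1 : Module.finrank (ResidueField B) (ResidueField A) = N := pb.finrank
    rw [← h1, ← finrank_quotient_map (R := B) (S := A)]
    exact Algebra.finrank_eq_of_equiv_equiv (RingEquiv.refl _) (Ideal.quotEquivOfEq hspanmax) (by ext; rfl)
  let bas : Module.Basis (Fin N) B A := basisOfTopLeSpanOfCardEqFinrank v hspan (by simp [hrank])
  have hbas : ∀ i, bas i = a ^ (i : ℕ) := fun i => by simp [bas, v]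
  have hfixcoef : ∀ x : A, (∀ h, σ h x = x) → ∀ i, ∃ c, algebraMap C₀ B c = bas.repr x i := by
    intro x hx i
    refine hinv _ fun h => ?_
    have e : σ h x = ∑ j, τ h (bas.repr x j) • bas j := by
      conv_lhs => rw [← bas.sum_repr x]
      rw [map_sum]
      refine Finset.sum_congr rfl fun j _ => ?_
      rw [Algebra.smul_def, Algebra.smul_def, map_mul, hcomp, hbas, map_pow, hafix]
    have := congrArg (fun z => bas.repr z i) e
    simp only [bas.repr_sum_self, hx] at this
    exact this.symm
  choose c hc using hfixcoef (a ^ N) (fun h => by rw [map_pow, hafix])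
  let f : C₀[X] := X ^ N - ∑ i : Fin N, C (c i) * X ^ (i : ℕ)
  have hf : f.Monic := monic_X_pow_sub (degree_sum_fin_lt c)
  have hfa : aeval a f = 0 := by
    simp only [f, map_sub, map_pow, aeval_X, map_sum, map_mul, aeval_C]
    rw [sub_eq_zero]
    conv_lhs => rw [← bas.sum_repr (a ^ N)]
    refine Finset.sum_congr rfl fun i _ => ?_
    rw [IsScalarTower.algebraMap_apply C₀ B A, hc, hbas, ← Algebra.smul_def]
  have hfdeg : ∀ r : C₀[X], r.degree < f.degree → ∀ i, N ≤ i → r.coeff i = 0 := by
    intro r hr i hi
    refine coeff_eq_zero_of_degree_lt (hr.trans_le ?_)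
    haveI : Nontrivial C₀ := (algebraMap C₀ B).domain_nontrivial
    rw [show f.degree = (N : WithBot ℕ) by
      simp only [f]
      rw [degree_sub_eq_left_of_degree_lt (by rw [degree_X_pow]; exact degree_sum_fin_lt c), degree_X_pow]]
    exact_mod_cast hi
  have hker : ∀ g : C₀[X], aeval a g = 0 → f ∣ g := by
    intro g hg
    haveI : Nontrivial C₀ := (algebraMap C₀ B).domain_nontrivial
    rw [← modByMonic_eq_zero_iff_dvd hf]
    let r := g %ₘ f
    have hr : aeval a r = 0 := by rw [aeval_modByMonic_eq_self_of_root hfa]; exact hg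
    have hdeg := hfdeg r (degree_modByMonic_lt g hf)
    have hsum : ∑ i : Fin N, algebraMap C₀ B (r.coeff i) • bas i = 0 := by
      rw [← hr, aeval_eq_sum_range' (n := N + r.natDegree + 1) (by omega)]
      simp only [hbas]
      rw [Fin.sum_univ_eq_sum_range (fun i => algebraMap C₀ B (r.coeff i) • a ^ i) N]
      refine (Finset.sum_subset (Finset.range_mono (by omega)) fun i _ hi => ?_).trans
        (Finset.sum_congr rfl fun i _ => algebraMap_smul B (r.coeff i) (a ^ i))
      rw [hdeg i (by simpa using hi), map_zero, zero_smul]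
    have h0 := Fintype.linearIndependent_iff.1 bas.linearIndependent _ hsum
    refine Polynomial.ext fun i => ?_
    rw [coeff_zero]
    by_cases hi : N ≤ i
    · exact hdeg i hi
    · exact hinj (by rw [h0 ⟨i, not_le.1 hi⟩, map_zero])
  have hcomps : (algebraMap (ResidueField B) (ResidueField A)).comp ((residue B).comp (algebraMap C₀ B)) =
      (residue A).comp (algebraMap C₀ A) := by
    ext z
    simp only [RingHom.comp_apply]
    rw [IsScalarTower.algebraMap_apply C₀ B A]
    rfl
  have hmin : (f.map ((residue B).comp (algebraMap C₀ B))) = minpoly (ResidueField B) (residue A a) := by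
    haveI : Nontrivial C₀ := (algebraMap C₀ B).domain_nontrivial
    refine eq_of_monic_of_dvd_of_natDegree_le (minpoly.monic (Algebra.IsIntegral.isIntegral _)) (hf.map _) ?_ ?_
    · refine minpoly.dvd _ _ ?_
      rw [aeval_def, eval₂_map]
      have h := congrArg (residue A) hfa
      rw [aeval_def, hom_eval₂, map_zero] at h
      rw [hcomps]; exact h
    · rw [hf.natDegree_map]
      have h1 : f.natDegree = N := natDegree_eq_of_degree_eq_some (by
        simp only [f]
        rw [degree_sub_eq_left_of_degree_lt (by rw [degree_X_pow]; exact degree_sum_fin_lt c), degree_X_pow])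
      rw [h1, show N = (minpoly (ResidueField B) (residue A a)).natDegree from rfl]
  have hunit : IsUnit (aeval a (derivative f)) := by
    rw [← not_not (a := IsUnit _), ← mem_nonunits_iff, ← IsLocalRing.mem_maximalIdeal, ← Ideal.Quotient.eq_zero_iff_mem]
    intro h0
    have hsep := (Algebra.IsSeparable.isSeparable (ResidueField B) (residue A a)).aeval_derivative_ne_zero
      (minpoly.aeval (ResidueField B) (residue A a))
    refine hsep ?_
    rw [← hmin, derivative_map, aeval_def, eval₂_map]
    rw [aeval_def, hom_eval₂] at h0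
    rw [hcomps]; exact h0
  have hsepf : f.Separable := by
    obtain ⟨w, hw⟩ := hunit
    have hwfix : ∀ h, σ h ((w⁻¹ : Aˣ) : A) = ((w⁻¹ : Aˣ) : A) := fun h =>
      Units.eq_inv_of_mul_eq_one_right (by
        have h2 : σ h (w : A) = w := by
          rw [hw, aeval_def, eval₂_eq_sum_range, map_sum]
          refine Finset.sum_congr rfl fun i _ => ?_
          rw [map_mul, map_pow, hafix, IsScalarTower.algebraMap_apply C₀ B A, hcomp, hfix]
        nth_rw 1 [← h2]; rw [← map_mul, w.inv_mul, map_one])
    choose e he using hfixcoef _ hwfix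
    have hdvd : f ∣ derivative f * (∑ i : Fin N, C (e i) * X ^ (i : ℕ)) - 1 := hker _ (by
      rw [map_sub, map_mul, map_one, sub_eq_zero, ← hw]
      convert w.mul_inv using 2
      conv_rhs => rw [← bas.sum_repr ((w⁻¹ : Aˣ) : A)]
      rw [map_sum]
      refine Finset.sum_congr rfl fun i _ => ?_
      rw [map_mul, map_pow, aeval_C, aeval_X, IsScalarTower.algebraMap_apply C₀ B A, he, hbas, Algebra.smul_def])
    obtain ⟨g, hg⟩ := hdvd
    rw [separable_def']
    exact ⟨-g, ∑ i : Fin N, C (e i) * X ^ (i : ℕ), by linear_combination hg⟩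
  obtain ⟨p₂, p₁, hp⟩ := hsepf
  let P : StandardEtalePair C₀ := ⟨f, hf, 1, p₁, p₂, 0, by rw [pow_zero, ← hp]; ring⟩
  have hmapP : P.HasMap a := ⟨hfa, by simp [P]⟩
  have hsurj : ∀ y : P.Ring, ∃ g : C₀[X], aeval P.X g = y := by
    intro y
    obtain ⟨z, rfl⟩ := Ideal.Quotient.mk_surjective y
    refine ⟨z.eval 1, ?_⟩
    have h1 : (Ideal.Quotient.mk _ z : P.Ring) = Ideal.Quotient.mk _ (Polynomial.C (z.eval 1)) := by
      rw [Ideal.Quotient.eq]
      obtain ⟨w, hw⟩ := X_sub_C_dvd_sub_C_eval (a := (1 : C₀[X])) (p := z)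
      rw [hw]
      refine Ideal.mul_mem_right _ _ (Ideal.subset_span ?_)
      simp [P]
    rw [h1]
    generalize z.eval 1 = g
    induction g using Polynomial.induction_on with
    | C c => rw [aeval_C]; rfl
    | add p q hp hq => rw [map_add (aeval P.X), hp, hq, map_add, map_add]; rfl
    | monomial n c _ =>
      rw [map_mul, map_pow, aeval_C, aeval_X, map_mul Polynomial.C, map_pow Polynomial.C, map_mul, map_pow]
      rfl
  refine ⟨P, P.lift a hmapP, ?_, fun x => ⟨?_, fun hx => ?_⟩⟩
  · rw [injective_iff_map_eq_zero]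
    intro y hy
    obtain ⟨g, rfl⟩ := hsurj y
    rw [← aeval_algHom_apply, StandardEtalePair.lift_X] at hy
    obtain ⟨w, hw⟩ := hker _ hy
    rw [hw, map_mul, show aeval P.X f = 0 from P.hasMap_X.1, zero_mul]
  · rintro ⟨y, rfl⟩ h
    obtain ⟨g, rfl⟩ := hsurj y
    rw [← aeval_algHom_apply, StandardEtalePair.lift_X, aeval_def, eval₂_eq_sum_range, map_sum]
    refine Finset.sum_congr rfl fun i _ => ?_
    rw [map_mul, map_pow, hafix, IsScalarTower.algebraMap_apply C₀ B A, hcomp, hfix]
  · choose d hd using hfixcoef x hx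
    refine ⟨∑ i : Fin N, algebraMap C₀ P.Ring (d i) * P.X ^ (i : ℕ), ?_⟩
    conv_rhs => rw [← bas.sum_repr x]
    rw [map_sum]
    refine Finset.sum_congr rfl fun i _ => ?_
    rw [map_mul, map_pow, AlgHom.commutes, StandardEtalePair.lift_X, IsScalarTower.algebraMap_apply C₀ B A, hd, hbas,
      Algebra.smul_def]

end Groth.Agent.InvEtale25
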