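import Groth.Agent.FlatLocal.FlatAt
import Groth.Agent.AlgSpLib.SourceRing
import Mathlib.RingTheory.Etale.Kaehler
import Mathlib.RingTheory.Flat.FaithfullyFlat.Algebra
import Mathlib.RingTheory.Etale.Locus
import Mathlib.RingTheory.Localization.AtPrime.Extension

/-!
# Descent of étaleness at a prime along a locally étale faithfully flat map
-/

set_option autoImplicit false
set_option linter.style.haveILetI false

universe u

open TensorProduct

namespace Groth.Agent.InvEtale25

variable {R S T : Type u} [CommRing R] [CommRing S] [CommRing T] [Algebra R S] [Algebra S T] [Algebra R T]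
  [IsScalarTower R S T]

/-- If `R → T` is étale at `Q` and `S → T` is formally étale and flat at `Q`, then `R → S` is étale below `Q`. -/
theorem isEtaleAt_descend [Algebra.FinitePresentation R S] (Q : Ideal T) [Q.IsPrime]
    [Algebra.FormallyEtale S (Localization.AtPrime Q)] [Module.Flat S (Localization.AtPrime Q)]
    [Algebra.FormallyEtale R (Localization.AtPrime Q)] [Module.Flat R (Localization.AtPrime Q)] :
    Algebra.IsEtaleAt R (Q.comap (algebraMap S T)) := by
  let q := Q.comap (algebraMap S T)
  haveI : Q.LiesOver q := ⟨rfl⟩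
  let Sq := Localization.AtPrime q
  let TQ := Localization.AtPrime Q
  letI := Localization.AtPrime.algebraOfLiesOver q Q
  haveI : Algebra.FormallyEtale Sq TQ := .localization_base q.primeCompl
  haveI : Module.Flat Sq TQ := (Module.flat_iff_of_isLocalization Sq q.primeCompl TQ).2 inferInstance
  haveI : Module.FaithfullyFlat Sq TQ := Module.FaithfullyFlat.of_flat_of_isLocalHom
  haveI : Subsingleton (TQ ⊗[Sq] Ω[Sq⁄R]) :=
    (KaehlerDifferential.tensorKaehlerEquivOfFormallyEtale R Sq TQ).toEquiv.subsingleton
  haveI : Subsingleton Ω[Sq⁄R] := by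
    by_contra h
    rw [not_subsingleton_iff_nontrivial] at h
    haveI := Module.FaithfullyFlat.lTensor_nontrivial Sq TQ Ω[Sq⁄R]
    exact not_subsingleton (TQ ⊗[Sq] Ω[Sq⁄R]) ‹_›
  haveI : Algebra.IsUnramifiedAt R q := ⟨inferInstance⟩
  haveI : Module.Flat R Sq := RingHom.flat_algebraMap_iff.1 (AlgSpLib.flat_of_comp (algebraMap R Sq) (algebraMap Sq TQ)
    (RingHom.faithfullyFlat_algebraMap_iff.2 inferInstance)
    (by rw [← IsScalarTower.algebraMap_eq]; exact RingHom.flat_algebraMap_iff.2 inferInstance))
  exact FlatLocal.isEtaleAt_of_flatAt q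

end Groth.Agent.InvEtale25
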