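import Mathlib.RingTheory.Etale.Basic
import Mathlib.RingTheory.Localization.Away.Lemmas
import Mathlib.RingTheory.TensorProduct.Maps

/-!
# An idempotent piece of a pushout of a locally étale algebra is formally étale
-/

set_option autoImplicit false
set_option linter.style.haveILetI false

universe u

open TensorProduct

namespace Groth.Agent.InvEtale25

theorem formallyEtale_piece {B A B₁ T₀ A₁ : Type u} [CommRing B] [CommRing A] [CommRing B₁] [CommRing T₀] [CommRing A₁]
    [Algebra B A] [Algebra B B₁] [Algebra B₁ A₁] (g₀ : A) [Algebra.Etale B (Localization.Away g₀)]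
    (ι : B₁ →+* T₀) (κ : A →+* T₀) (hικ : ∀ b, ι (algebraMap B B₁ b) = κ (algebraMap B A b))
    (hext : ∀ f g : T₀ →+* A₁, (∀ b, f (ι b) = g (ι b)) → (∀ a, f (κ a) = g (κ a)) → f = g)
    (hlift : ∀ (U : Type u) [CommRing U] (a : B₁ →+* U) (c : A →+* U),
      (∀ b, a (algebraMap B B₁ b) = c (algebraMap B A b)) → ∃ v : T₀ →+* U, (∀ b, v (ι b) = a b) ∧ ∀ x, v (κ x) = c x)
    (mk : T₀ →+* A₁) (hmk : Function.Surjective mk) (hmkι : ∀ b, mk (ι b) = algebraMap B₁ A₁ b)
    (e₀ : T₀) (he₀ : IsIdempotentElem e₀) (hker : RingHom.ker mk = Ideal.span {1 - e₀})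
    (hg : IsUnit (mk (κ g₀))) : Algebra.FormallyEtale B₁ A₁ := by
  let Ag := Localization.Away g₀
  let U := B₁ ⊗[B] Ag
  letI : Algebra B A₁ := RingHom.toAlgebra ((algebraMap B₁ A₁).comp (algebraMap B B₁))
  haveI : IsScalarTower B B₁ A₁ := IsScalarTower.of_algebraMap_eq fun _ => rfl
  let mkA : A →ₐ[B] A₁ :=
    { toRingHom := mk.comp κ
      commutes' := fun b => by
        show mk (κ (algebraMap B A b)) = algebraMap B₁ A₁ (algebraMap B B₁ b)
        rw [← hικ, hmkι] }
  let lA : Ag →ₐ[B] A₁ := IsLocalization.liftAlgHom (M := Submonoid.powers g₀) (f := mkA) (by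
    rintro ⟨_, n, rfl⟩
    show IsUnit (mkA (g₀ ^ n))
    rw [map_pow]; exact hg.pow n)
  have hlA : ∀ a, lA (algebraMap A Ag a) = mk (κ a) := fun a => IsLocalization.lift_eq _ a
  let u : U →ₐ[B₁] A₁ := Algebra.TensorProduct.lift (Algebra.ofId B₁ A₁) lA fun _ _ => Commute.all _ _
  let c : A →+* U := (Algebra.TensorProduct.includeRight : Ag →ₐ[B] U).toRingHom.comp (algebraMap A Ag)
  obtain ⟨v, hvι, hvκ⟩ := hlift U (algebraMap B₁ U) c fun b => by
    show algebraMap B₁ U (algebraMap B B₁ b) = (1 : B₁) ⊗ₜ[B] algebraMap A Ag (algebraMap B A b)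
    rw [← IsScalarTower.algebraMap_apply B A Ag, ← IsScalarTower.algebraMap_apply B B₁ U]
    exact ((Algebra.TensorProduct.includeRight : Ag →ₐ[B] U).commutes b).symm
  have huv : u.toRingHom.comp v = mk := hext _ _
    (fun b => by show u (v (ι b)) = _; rw [hvι, AlgHom.commutes, hmkι])
    (fun a => by
      show u (v (κ a)) = _
      rw [hvκ]
      show u ((1 : B₁) ⊗ₜ[B] algebraMap A Ag a) = _
      rw [Algebra.TensorProduct.lift_tmul, map_one, one_mul, hlA])
  have huv' : ∀ t, u (v t) = mk t := fun t => DFunLike.congr_fun huv t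
  let gU : U := c g₀
  have hgU : IsUnit gU :=
    (IsLocalization.Away.algebraMap_isUnit (S := Ag) g₀).map (Algebra.TensorProduct.includeRight : Ag →ₐ[B] U)
  have hsurjU : ∀ w : U, ∃ n : ℕ, ∃ t, gU ^ n * w = v t := fun w => by
    induction w using TensorProduct.induction_on with
    | zero => exact ⟨0, 0, by simp⟩
    | tmul b w =>
      obtain ⟨⟨a, ⟨_, n, rfl⟩⟩, hw⟩ := IsLocalization.surj (Submonoid.powers g₀) w
      refine ⟨n, ι b * κ a, ?_⟩
      rw [map_mul, hvι, hvκ, ← map_pow]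
      show ((1 : B₁) ⊗ₜ[B] algebraMap A Ag (g₀ ^ n)) * (b ⊗ₜ[B] w) =
        (b ⊗ₜ[B] (1 : Ag)) * ((1 : B₁) ⊗ₜ[B] algebraMap A Ag a)
      rw [Algebra.TensorProduct.tmul_mul_tmul, Algebra.TensorProduct.tmul_mul_tmul, one_mul, one_mul, mul_one,
        mul_comm, hw]
    | add a b ha hb =>
      obtain ⟨n, t, ht⟩ := ha
      obtain ⟨m, t', ht'⟩ := hb
      refine ⟨n + m, κ (g₀ ^ m) * t + κ (g₀ ^ n) * t', ?_⟩
      rw [map_add, map_mul, map_mul, hvκ, hvκ, ← ht, ← ht', map_pow, map_pow, pow_add]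
      show gU ^ n * gU ^ m * (a + b) = gU ^ m * (gU ^ n * a) + gU ^ n * (gU ^ m * b)
      ring
  have husurj : Function.Surjective u := fun w => by
    obtain ⟨t, rfl⟩ := hmk w
    exact ⟨v t, huv' t⟩
  have hkeru : RingHom.ker u.toRingHom = Ideal.span {1 - v e₀} := by
    refine le_antisymm (fun w hw => ?_) (Ideal.span_le.2 ?_)
    · obtain ⟨n, t, ht⟩ := hsurjU w
      have h1 : t ∈ RingHom.ker mk := by
        rw [RingHom.mem_ker, ← huv', ← ht, map_mul, show u w = 0 from hw, mul_zero]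
      rw [hker] at h1
      obtain ⟨d, hd⟩ := Ideal.mem_span_singleton.1 h1
      refine (Ideal.unit_mul_mem_iff_mem _ (hgU.pow n)).1 (Ideal.mem_span_singleton.2 ⟨v d, ?_⟩)
      rw [ht, hd, map_mul, map_sub, map_one]
    · rintro _ rfl
      show u (1 - v e₀) = 0
      rw [← map_one v, ← map_sub, huv', ← RingHom.mem_ker, hker]
      exact Ideal.subset_span rfl
  letI : Algebra U A₁ := RingHom.toAlgebra u.toRingHom
  haveI : IsScalarTower B₁ U A₁ := IsScalarTower.of_algebraMap_eq fun b => (u.commutes b).symm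
  haveI : IsLocalization.Away (v e₀) A₁ := IsLocalization.away_of_isIdempotentElem (he₀.map v) hkeru husurj
  haveI : Algebra.FormallyEtale U A₁ := .of_isLocalization (Submonoid.powers (v e₀))
  exact .comp B₁ U A₁

end Groth.Agent.InvEtale25
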