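import Groth.Agent.InvEtale25.Core
import Groth.Agent.InvEtale25.Piece
import Groth.Agent.InvEtale25.Descent
import Groth.Agent.S12933
import Mathlib.RingTheory.Etale.QuasiFinite
import Mathlib.RingTheory.Invariant.Basic
import Mathlib.RingTheory.Adjoin.Tower

/-!
# Étaleness of invariants at a point with full inertia
-/

set_option autoImplicit false
set_option backward.isDefEq.respectTransparency false
set_option backward.isDefEq.respectTransparency.types false
set_option linter.style.haveILetI false
set_option maxHeartbeats 2400000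
set_option synthInstance.maxHeartbeats 100000

universe u

open TensorProduct IsLocalRing

namespace Groth.Agent.InvEtale25

section PrimeExt

variable {P C A : Type u} [CommRing P] [CommRing C] [CommRing A] [Algebra P C] [Algebra P A]
  (z : Ideal C) [z.IsPrime]

/-- Every element of `C_z ⊗ A` becomes an element of `C ⊗ A` after multiplying by some `s ∉ z`. -/
theorem exists_mul_eq (t : Localization.AtPrime z ⊗[P] A) : ∃ s : C, s ∉ z ∧ ∃ w : C ⊗[P] A,
    (algebraMap C (Localization.AtPrime z) s ⊗ₜ[P] (1 : A)) * t =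
      Algebra.TensorProduct.map (IsScalarTower.toAlgHom P C (Localization.AtPrime z)) (AlgHom.id P A) w := by
  induction t using TensorProduct.induction_on with
  | zero => exact ⟨1, fun h => ‹z.IsPrime›.ne_top ((Ideal.eq_top_iff_one z).2 h), 0, by simp⟩
  | tmul c a =>
    obtain ⟨⟨n, s⟩, hns⟩ := IsLocalization.surj z.primeCompl c
    refine ⟨s, s.2, n ⊗ₜ a, ?_⟩
    rw [Algebra.TensorProduct.tmul_mul_tmul, one_mul, mul_comm, hns]
    rfl
  | add x y hx hy =>
    obtain ⟨s, hs, w, hw⟩ := hx
    obtain ⟨s', hs', w', hw'⟩ := hy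
    refine ⟨s * s', fun h => (‹z.IsPrime›.mem_or_mem h).elim hs hs', (s' ⊗ₜ 1) * w + (s ⊗ₜ 1) * w', ?_⟩
    rw [map_add, map_mul (Algebra.TensorProduct.map _ _), map_mul (Algebra.TensorProduct.map _ _), ← hw, ← hw']
    simp only [Algebra.TensorProduct.map_tmul, AlgHom.coe_id, id_eq, IsScalarTower.coe_toAlgHom']
    rw [show (algebraMap C (Localization.AtPrime z) (s * s')) ⊗ₜ[P] (1 : A) =
      (algebraMap C _ s ⊗ₜ[P] (1 : A)) * (algebraMap C _ s' ⊗ₜ[P] (1 : A)) by
      rw [Algebra.TensorProduct.tmul_mul_tmul, map_mul, one_mul]]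
    ring

/-- Primes of `C_z ⊗ A` are determined by their trace on `C ⊗ A`. -/
theorem prime_ext (M M' : Ideal (Localization.AtPrime z ⊗[P] A)) [M.IsPrime] [M'.IsPrime]
    (h : M.comap (Algebra.TensorProduct.map (IsScalarTower.toAlgHom P C (Localization.AtPrime z)) (AlgHom.id P A)).toRingHom =
      M'.comap (Algebra.TensorProduct.map (IsScalarTower.toAlgHom P C (Localization.AtPrime z)) (AlgHom.id P A)).toRingHom) :
    M = M' := by
  suffices hle : ∀ (M M' : Ideal (Localization.AtPrime z ⊗[P] A)) [M.IsPrime] [M'.IsPrime],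
      M.comap (Algebra.TensorProduct.map (IsScalarTower.toAlgHom P C (Localization.AtPrime z)) (AlgHom.id P A)).toRingHom =
      M'.comap (Algebra.TensorProduct.map (IsScalarTower.toAlgHom P C (Localization.AtPrime z)) (AlgHom.id P A)).toRingHom → M ≤ M' from
    le_antisymm (hle M M' h) (hle M' M h.symm)
  intro M M' _ hM' h t ht
  obtain ⟨s, hs, w, hw⟩ := exists_mul_eq z t
  have h1 : w ∈ M'.comap (Algebra.TensorProduct.map (IsScalarTower.toAlgHom P C (Localization.AtPrime z)) (AlgHom.id P A)).toRingHom := by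
    rw [← h]
    show _ ∈ M
    exact hw ▸ M.mul_mem_left _ ht
  have hu : IsUnit (algebraMap C (Localization.AtPrime z) s ⊗ₜ[P] (1 : A)) :=
    (IsLocalization.map_units (Localization.AtPrime z) (⟨s, hs⟩ : z.primeCompl)).map
      (Algebra.TensorProduct.includeLeft (S := P) (R := P) (B := A))
  exact (Ideal.unit_mul_mem_iff_mem M' hu).1 (hw ▸ h1)

end PrimeExt

variable {P B Q A : Type u} [CommRing P] [CommRing B] [CommRing Q] [CommRing A]
  [Algebra P B] [Algebra B A] [Algebra P A] [IsScalarTower P B A]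
  [Algebra P Q] [Algebra Q A] [IsScalarTower P Q A]
  {H : Type u} [Group H] [Finite H] [MulSemiringAction H A] [MulSemiringAction H B]
  [SMulCommClass H P A] [SMulCommClass H P B] [SMulCommClass H Q A]
  [Algebra.IsInvariant P B H] [Algebra.IsInvariant Q A H]
  [IsNoetherianRing P] [Module.Finite P B] [Algebra.FiniteType B A] [FaithfulSMul P B] [FaithfulSMul Q A]

/-- Invariants are étale at a point whose inertia group is everything. -/
theorem isEtaleAt_of_inertia_top (hGeq : ∀ (g : H) (b : B), algebraMap B A (g • b) = g • algebraMap B A b)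
    (x : Ideal A) [x.IsPrime] (hx : Algebra.IsEtaleAt B x) (hin : ∀ (g : H) (a : A), g • a - a ∈ x) :
    Algebra.IsEtaleAt P (x.comap (algebraMap Q A)) := by
  classical
  cases nonempty_fintype H
  haveI : IsNoetherianRing B := IsNoetherianRing.of_finite P B
  haveI : Algebra.FinitePresentation B A := Algebra.FinitePresentation.of_finiteType.1 inferInstance
  let p := x.comap (algebraMap P A)
  let y := x.comap (algebraMap B A)
  haveI : x.LiesOver p := ⟨rfl⟩
  haveI hyp : y.LiesOver p := ⟨by simp only [p, y, Ideal.under, Ideal.comap_comap, ← IsScalarTower.algebraMap_eq]⟩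
  have hstab : ∀ (g : H) (b : B), g • b - b ∈ y := fun g b => by
    show algebraMap B A (g • b - b) ∈ x
    rw [map_sub, hGeq]
    exact hin g _
  have hyuniq : ∀ y' : Ideal B, y'.IsPrime → y'.LiesOver p → y' = y := fun y' _ hy' => by
    obtain ⟨g, rfl⟩ := Algebra.IsInvariant.exists_smul_of_under_eq P B H y y' (hyp.over.symm.trans hy'.over)
    ext b
    rw [Ideal.mem_pointwise_smul_iff_inv_smul_mem]
    exact ⟨fun h => by simpa using y.sub_mem h (hstab g⁻¹ b), fun h => by simpa using y.add_mem (hstab g⁻¹ b) h⟩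
  -- quasi-finiteness
  obtain ⟨g₀, hg₀, hg₀e⟩ := Algebra.exists_etale_of_isEtaleAt (R := B) x
  haveI : Algebra.QuasiFiniteAt P x := by
    haveI : Algebra.QuasiFinite B (Localization.Away g₀) := inferInstance
    haveI : Algebra.QuasiFinite P (Localization.Away g₀) := Algebra.QuasiFinite.trans P B _
    let xg := x.map (algebraMap A (Localization.Away g₀))
    have hdisj : Disjoint (Submonoid.powers g₀ : Set A) (x : Set A) := by
      rwa [Ideal.disjoint_powers_iff_notMem_of_isPrime]
    haveI : xg.IsPrime := IsLocalization.isPrime_of_isPrime_disjoint (Submonoid.powers g₀) _ x ‹_› hdisj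
    have hxg : xg.comap (algebraMap A (Localization.Away g₀)) = x :=
      IsLocalization.under_map_of_isPrime_disjoint (Submonoid.powers g₀) _ ‹_› hdisj
    haveI h0 : IsLocalization.AtPrime (Localization.AtPrime xg) (xg.comap (algebraMap A (Localization.Away g₀))) :=
      IsLocalization.isLocalization_isLocalization_atPrime_isLocalization (Submonoid.powers g₀) _ xg
    haveI : IsLocalization.AtPrime (Localization.AtPrime xg) x := by
      have hc : (xg.comap (algebraMap A (Localization.Away g₀))).primeCompl = x.primeCompl := by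
        ext z; simp [Ideal.primeCompl, hxg]
      show IsLocalization x.primeCompl _
      rw [← hc]; exact h0
    show Algebra.QuasiFinite P (Localization.AtPrime x)
    exact Algebra.QuasiFinite.of_surjective_algHom
      ((IsLocalization.algEquiv x.primeCompl (Localization.AtPrime xg) (Localization.AtPrime x)).restrictScalars P).toAlgHom
      (AlgEquiv.surjective _)
  haveI : Algebra.FiniteType P A := Algebra.FiniteType.trans (R := P) (S := B) inferInstance inferInstance
  obtain ⟨C, _, _, _, z, _, _, e₁, he₁, P', _, _, hP'x, he₁P', hres0, hfin, huniq⟩ :=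
    Algebra.exists_etale_isIdempotentElem_forall_liesOver_eq p x
  let T := C ⊗[P] A
  let act : H → T →ₐ[C] T := fun g => Algebra.TensorProduct.map (AlgHom.id C C) (MulSemiringAction.toAlgHom P A g)
  have act_tmul : ∀ g c a, act g (c ⊗ₜ[P] a) = c ⊗ₜ[P] (g • a) := fun g c a => rfl
  have act_act : ∀ g g' t, act g (act g' t) = act (g * g') t := fun g g' t => by
    induction t using TensorProduct.induction_on with
    | zero => simp
    | tmul c a => simp only [act_tmul, mul_smul]
    | add t t' h h' => simp only [map_add, h, h']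
  have act_P' : ∀ g, P'.comap (act g).toRingHom = P' := fun g => by
    haveI : (P'.comap (act g).toRingHom).IsPrime := Ideal.comap_isPrime _ _
    haveI : (P'.comap (act g).toRingHom).LiesOver z := ⟨by
      rw [Ideal.under, Ideal.comap_comap, Ideal.over_def P' z, Ideal.under]
      congr 1
      exact ((act g).comp_algebraMap).symm⟩
    refine Ideal.eq_of_comap_eq_comap_of_bijective_residueFieldMap hres0 _ _ ?_
    rw [Ideal.comap_comap, hP'x]
    ext a
    show act g (1 ⊗ₜ a) ∈ P' ↔ a ∈ x
    rw [act_tmul]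
    have : g • a ∈ x ↔ a ∈ x :=
      ⟨fun h => by simpa using x.sub_mem h (hin g a), fun h => by simpa using x.add_mem (hin g a) h⟩
    rw [← this]
    conv_rhs => rw [← hP'x]
    rfl
  let e : T := ∏ g : H, act g e₁
  have hee : IsIdempotentElem e := by
    show e * e = e
    simp only [e, ← Finset.prod_mul_distrib, ← map_mul, he₁.eq]
  have hefix : ∀ g, act g e = e := fun g => by
    simp only [e, map_prod, act_act]
    exact Fintype.prod_bijective _ (Group.mulLeft_bijective g) _ _ fun _ => rfl
  have heP' : e ∉ P' := fun h => by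
    obtain ⟨g, -, hg⟩ := Ideal.IsPrime.prod_mem_iff.1 h
    exact he₁P' ((act_P' g).le hg)
  have he₁e : ∃ d, e = e₁ * d := by
    refine ⟨∏ g ∈ Finset.univ.erase 1, act g e₁, ?_⟩
    have h1 : ∀ t, act 1 t = t := fun t => by
      induction t using TensorProduct.induction_on with
      | zero => simp
      | tmul c a => rw [act_tmul, one_smul]
      | add a b ha hb => simp only [map_add, ha, hb]
    refine (Finset.mul_prod_erase Finset.univ (fun g => act g e₁) (Finset.mem_univ 1)).symm.trans ?_
    rw [h1]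
  obtain ⟨d, hd⟩ := he₁e
  -- the finite local piece
  let C₀ := Localization.AtPrime z
  haveI : Algebra.FiniteType P C := inferInstance
  haveI : IsNoetherianRing C := Algebra.FiniteType.isNoetherianRing P C
  haveI : IsNoetherianRing C₀ := IsLocalization.isNoetherianRing z.primeCompl C₀ inferInstance
  haveI : Module.Flat P C₀ := Module.Flat.trans P C C₀
  let T₀ := C₀ ⊗[P] A
  let ψ : T →ₐ[P] T₀ := Algebra.TensorProduct.map (IsScalarTower.toAlgHom P C C₀) (AlgHom.id P A)
  let e₀ := ψ e
  let J : Ideal T₀ := Ideal.span {1 - e₀}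
  let A₁ := T₀ ⧸ J
  letI instA₁ : CommRing A₁ := Ideal.Quotient.commRing J
  haveI : Module.Finite C₀ A₁ := by
    have hefin : Module.Finite C (T ⧸ Ideal.span {1 - e}) := by
      haveI : IsLocalization.Away e₁ (T ⧸ Ideal.span {1 - e₁}) :=
        IsLocalization.away_of_isIdempotentElem he₁ Ideal.mk_ker Ideal.Quotient.mk_surjective
      haveI := hfin
      haveI : Module.Finite C (T ⧸ Ideal.span {1 - e₁}) := Module.Finite.equiv
        ((IsLocalization.algEquiv (Submonoid.powers e₁) (Localization.Away e₁) (T ⧸ Ideal.span {1 - e₁})).restrictScalars C).toLinearEquiv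
      have hle : Ideal.span {1 - e₁} ≤ Ideal.span {1 - e} := by
        rw [Ideal.span_singleton_le_span_singleton]
        exact ⟨1 - e₁, by rw [hd]; linear_combination (-d) * he₁.eq⟩
      exact Module.Finite.of_surjective (Ideal.Quotient.factorₐ C hle).toLinearMap
        (Ideal.Quotient.factor_surjective hle)
    obtain ⟨S, hS⟩ := hefin.fg_top
    choose lift hliftS using fun w : T ⧸ Ideal.span {1 - e} => Ideal.Quotient.mk_surjective w
    refine ⟨⟨S.image fun w => Ideal.Quotient.mk J (ψ (lift w)), eq_top_iff.2 fun w _ => ?_⟩⟩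
    have key : ∀ v : T ⧸ Ideal.span {1 - e}, v ∈ Submodule.span C (S : Set (T ⧸ Ideal.span {1 - e})) → ∀ t,
        Ideal.Quotient.mk _ t = v → Ideal.Quotient.mk J (ψ t) ∈
          Submodule.span C₀ ((fun w => Ideal.Quotient.mk J (ψ (lift w))) '' (S : Set (T ⧸ Ideal.span {1 - e}))) := by
      have hwd : ∀ t t', Ideal.Quotient.mk (Ideal.span {1 - e}) t = Ideal.Quotient.mk _ t' →
          Ideal.Quotient.mk J (ψ t) = Ideal.Quotient.mk J (ψ t') := fun t t' h => by
        rw [Ideal.Quotient.eq, Ideal.mem_span_singleton] at h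
        rw [Ideal.Quotient.eq, Ideal.mem_span_singleton, ← map_sub]
        have := map_dvd ψ h
        rwa [map_sub, map_one] at this
      intro v hv
      induction hv using Submodule.span_induction with
      | mem v hv => intro t ht; exact Submodule.subset_span ⟨v, hv, hwd _ _ ((hliftS v).trans ht.symm)⟩
      | zero => intro t ht; rw [hwd t 0 (by rw [ht, map_zero]), map_zero, map_zero]; exact Submodule.zero_mem _
      | add a b _ _ ha hb =>
        intro t ht
        rw [hwd t (lift a + lift b) (by rw [map_add, hliftS, hliftS, ht]), map_add, map_add]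
        exact Submodule.add_mem _ (ha _ (hliftS a)) (hb _ (hliftS b))
      | smul c a _ ha =>
        intro t ht
        rw [hwd t ((c ⊗ₜ[P] (1 : A)) * lift a) (by rw [ht, map_mul, hliftS]; exact (Algebra.smul_def c a).trans rfl), map_mul, map_mul,
          show Ideal.Quotient.mk J (ψ (c ⊗ₜ[P] (1 : A))) = algebraMap C₀ A₁ (algebraMap C C₀ c) from rfl, ← Algebra.smul_def]
        exact Submodule.smul_mem _ (algebraMap C C₀ c) (ha _ (hliftS a))
    obtain ⟨t, rfl⟩ := Ideal.Quotient.mk_surjective w
    rw [Finset.coe_image]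
    induction t using TensorProduct.induction_on with
    | zero => exact Submodule.zero_mem _
    | tmul c a =>
      have h := Submodule.smul_mem _ c (key _ (hS ▸ Submodule.mem_top) ((1 : C) ⊗ₜ[P] a) rfl)
      rw [show c ⊗ₜ[P] a = algebraMap C₀ T₀ c * ψ ((1 : C) ⊗ₜ[P] a) by
        show _ = (c ⊗ₜ[P] (1 : A)) * (algebraMap C C₀ 1 ⊗ₜ[P] a)
        rw [map_one, Algebra.TensorProduct.tmul_mul_tmul, mul_one, one_mul], map_mul]
      rw [Algebra.smul_def] at h
      exact h
    | add a b ha hb =>
      rw [map_add]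
      exact Submodule.add_mem _ (ha trivial) (hb trivial)
  have hlift : ∀ M : Ideal A₁, M.IsMaximal →
      (M.comap (Ideal.Quotient.mk J)).comap ψ.toRingHom = P' := fun M hM => by
    let M₀ := M.comap (Ideal.Quotient.mk J)
    haveI : M.IsMaximal := hM
    haveI : M.IsPrime := hM.isPrime
    haveI : M₀.IsPrime := Ideal.comap_isPrime _ _
    haveI : (M₀.comap ψ.toRingHom).IsPrime := Ideal.comap_isPrime _ _
    haveI : Algebra.IsIntegral C₀ A₁ := Algebra.IsIntegral.of_finite C₀ A₁
    have hM₀ : M.comap (algebraMap C₀ A₁) = maximalIdeal C₀ :=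
      IsLocalRing.eq_maximalIdeal (Ideal.isMaximal_comap_of_isIntegral_of_isMaximal (R := C₀) M)
    haveI : (M₀.comap ψ.toRingHom).LiesOver z := ⟨by
      ext c
      rw [← IsLocalization.AtPrime.to_map_mem_maximal_iff C₀ z c, ← hM₀]
      exact Iff.rfl⟩
    refine huniq _ inferInstance inferInstance fun h => ?_
    apply hM.ne_top
    rw [Ideal.eq_top_iff_one]
    have h1 : Ideal.Quotient.mk J (ψ e) ∈ M := by
      show ψ e ∈ M₀
      rw [hd, map_mul]
      exact M₀.mul_mem_right _ h
    rwa [show Ideal.Quotient.mk J (ψ e) = 1 by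
      rw [eq_comm, ← map_one (Ideal.Quotient.mk J), Ideal.Quotient.eq]
      exact Ideal.subset_span rfl] at h1
  haveI : Nontrivial A₁ := by
    let Tl := Localization.AtPrime P'
    let f₁ : C₀ →ₐ[P] Tl := IsLocalization.liftAlgHom (M := z.primeCompl)
      (f := ((IsScalarTower.toAlgHom P T Tl).comp Algebra.TensorProduct.includeLeft)) fun s =>
      IsLocalization.map_units Tl (⟨(s : C) ⊗ₜ 1, fun h => s.2 ((Ideal.mem_of_liesOver P' z (s : C)).2 h)⟩ : P'.primeCompl)
    let f : T₀ →ₐ[P] Tl := Algebra.TensorProduct.lift f₁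
      ((IsScalarTower.toAlgHom P T Tl).comp Algebra.TensorProduct.includeRight) fun _ _ => Commute.all _ _
    have hf : ∀ t, f (ψ t) = algebraMap T Tl t := fun t => by
      induction t using TensorProduct.induction_on with
      | zero => simp
      | tmul c a =>
        show f₁ (algebraMap C C₀ c) * algebraMap T Tl ((1 : C) ⊗ₜ[P] a) = _
        rw [show f₁ (algebraMap C C₀ c) = algebraMap T Tl (c ⊗ₜ[P] 1) from IsLocalization.lift_eq _ c, ← map_mul,
          Algebra.TensorProduct.tmul_mul_tmul, mul_one, one_mul]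
      | add a b ha hb => simp only [map_add, ha, hb]
    refine Ideal.Quotient.nontrivial_iff.2 fun h => ?_
    have h1 : IsUnit (1 - e₀) := Ideal.span_singleton_eq_top.1 h
    have h2 := h1.map f
    rw [map_sub, map_one, hf, ← map_one (algebraMap T Tl), ← map_sub] at h2
    rw [IsLocalization.AtPrime.isUnit_to_map_iff Tl P'] at h2
    refine h2 ?_
    refine (‹P'.IsPrime›.mem_or_mem (show (1 - e) * e ∈ P' by rw [sub_mul, one_mul, hee.eq, sub_self]; exact P'.zero_mem)).resolve_right heP'
  haveI : IsLocalRing A₁ := by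
    obtain ⟨M, hM⟩ := Ideal.exists_maximal A₁
    refine .of_unique_max_ideal ⟨M, hM, fun M' hM' => ?_⟩
    haveI := hM.isPrime
    haveI := hM'.isPrime
    haveI : (M.comap (Ideal.Quotient.mk J)).IsPrime := Ideal.comap_isPrime _ _
    haveI : (M'.comap (Ideal.Quotient.mk J)).IsPrime := Ideal.comap_isPrime _ _
    apply Ideal.comap_injective_of_surjective _ Ideal.Quotient.mk_surjective
    exact prime_ext z _ _ ((hlift M' hM').trans (hlift M hM).symm)
  have hmem : ∀ a : A, Ideal.Quotient.mk J ((1 : C₀) ⊗ₜ[P] a) ∈ maximalIdeal A₁ ↔ a ∈ x := fun a => by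
    conv_rhs => rw [← hP'x, ← hlift (maximalIdeal A₁) (maximalIdeal.isMaximal _)]
    show _ ↔ Ideal.Quotient.mk J (ψ ((1 : C) ⊗ₜ[P] a)) ∈ maximalIdeal A₁
    rw [Algebra.TensorProduct.map_tmul, map_one]
    rfl
  -- the base
  let B₁ := C₀ ⊗[P] B
  let ι : B₁ →ₐ[C₀] T₀ := Algebra.TensorProduct.map (AlgHom.id C₀ C₀) (IsScalarTower.toAlgHom P B A)
  let ιA : B₁ →+* A₁ := (Ideal.Quotient.mk J).comp ι.toRingHom
  letI : Algebra B₁ A₁ := RingHom.toAlgebra ιA
  haveI : IsScalarTower C₀ B₁ A₁ := IsScalarTower.of_algebraMap_eq (R := C₀) (S := B₁) (A := A₁) fun c => by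
    show _ = Ideal.Quotient.mk J (ι (algebraMap C₀ B₁ c))
    rw [AlgHom.commutes]; rfl
  haveI : Module.Finite B₁ A₁ := Module.Finite.of_restrictScalars_finite C₀ B₁ A₁
  haveI : Nontrivial B₁ := (algebraMap B₁ A₁).domain_nontrivial
  haveI : IsLocalRing B₁ := by
    let ψB : C ⊗[P] B →ₐ[P] B₁ := Algebra.TensorProduct.map (IsScalarTower.toAlgHom P C C₀) (AlgHom.id P B)
    have key : ∀ M : Ideal B₁, M.IsMaximal → ∀ M' : Ideal B₁, M'.IsMaximal → M = M' := fun M hM M' hM' => by
      have hz : ∀ N : Ideal B₁, N.IsMaximal → (N.comap ψB.toRingHom).LiesOver z ∧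
          (N.comap ψB.toRingHom).comap Algebra.TensorProduct.includeRight.toRingHom = y := fun N hN => by
        haveI : Algebra.IsIntegral C₀ B₁ := Algebra.IsIntegral.of_finite C₀ B₁
        have hN₀ : N.comap (algebraMap C₀ B₁) = maximalIdeal C₀ :=
          IsLocalRing.eq_maximalIdeal (Ideal.isMaximal_comap_of_isIntegral_of_isMaximal (R := C₀) N)
        haveI hlo : (N.comap ψB.toRingHom).LiesOver z := ⟨by
          ext c
          rw [← IsLocalization.AtPrime.to_map_mem_maximal_iff C₀ z c, ← hN₀]
          exact Iff.rfl⟩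
        haveI : (N.comap ψB.toRingHom).LiesOver p := Ideal.LiesOver.trans _ z p
        refine ⟨hlo, hyuniq _ inferInstance ⟨?_⟩⟩
        ext c
        rw [Ideal.mem_of_liesOver (N.comap ψB.toRingHom) p c,
          ← (Algebra.TensorProduct.includeRight : B →ₐ[P] C ⊗[P] B).commutes c]
        exact Iff.rfl
      haveI := (hz M hM).1
      haveI := (hz M' hM').1
      exact prime_ext z _ _ (Ideal.eq_of_comap_eq_comap_of_bijective_residueFieldMap hres0 _ _
        ((hz M hM).2.trans (hz M' hM').2.symm))
    obtain ⟨M, hM⟩ := Ideal.exists_maximal B₁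
    exact .of_unique_max_ideal ⟨M, hM, fun M' hM' => key M' hM' M hM⟩
  haveI : IsNoetherianRing B₁ := IsNoetherianRing.of_finite C₀ B₁
  haveI : Algebra.FormallyEtale B₁ A₁ := by
    let incB : B →+* B₁ := (Algebra.TensorProduct.includeRight : B →ₐ[P] B₁).toRingHom
    letI : Algebra B B₁ := RingHom.toAlgebra incB
    let κ : A →+* T₀ := (Algebra.TensorProduct.includeRight : A →ₐ[P] T₀).toRingHom
    refine formallyEtale_piece (B := B) g₀ ι.toRingHom κ (fun b => rfl) ?_ ?_ (Ideal.Quotient.mk J)
      Ideal.Quotient.mk_surjective (fun b => rfl) e₀ (hee.map ψ) Ideal.mk_ker ?_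
    · intro f g hb ha
      refine RingHom.ext fun t => ?_
      induction t using TensorProduct.induction_on with
      | zero => rw [map_zero, map_zero]
      | tmul c a =>
        have h3 : c ⊗ₜ[P] a = ι.toRingHom (c ⊗ₜ[P] (1 : B)) * κ a := by
          show _ = (c ⊗ₜ[P] algebraMap B A 1) * ((1 : C₀) ⊗ₜ[P] a)
          rw [map_one, Algebra.TensorProduct.tmul_mul_tmul, mul_one, one_mul]
        rw [h3, map_mul, map_mul, hb, ha]
      | add a b ha hb => rw [map_add, map_add, ha, hb]
    · intro U _ α β hαβ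
      letI : Algebra P U := RingHom.toAlgebra (α.comp (algebraMap P B₁))
      let α₁ : C₀ →ₐ[P] U :=
        { toRingHom := α.comp (algebraMap C₀ B₁)
          commutes' := fun c => congrArg α (IsScalarTower.algebraMap_apply P C₀ B₁ c).symm }
      let β₁ : A →ₐ[P] U :=
        { toRingHom := β
          commutes' := fun c => by
            show β (algebraMap P A c) = α (algebraMap P B₁ c)
            rw [IsScalarTower.algebraMap_apply P B A, ← hαβ]
            exact congrArg α ((Algebra.TensorProduct.includeRight : B →ₐ[P] B₁).commutes c) }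
      let v : T₀ →ₐ[P] U := Algebra.TensorProduct.lift α₁ β₁ fun a b => mul_comm (α₁ a) (β₁ b)
      refine ⟨v.toRingHom, fun b => ?_, fun a => ?_⟩
      · induction b using TensorProduct.induction_on with
        | zero => rw [map_zero, map_zero, map_zero]
        | tmul c b =>
          show α (algebraMap C₀ B₁ c) * β (algebraMap B A b) = _
          rw [← hαβ, ← map_mul]
          show α ((c ⊗ₜ[P] (1 : B)) * ((1 : C₀) ⊗ₜ[P] b)) = _
          rw [Algebra.TensorProduct.tmul_mul_tmul, mul_one, one_mul]
        | add a b ha hb => rw [map_add, map_add, map_add, ha, hb]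
      · show α (algebraMap C₀ B₁ 1) * β a = _
        rw [map_one, map_one, one_mul]
    · by_contra h
      exact hg₀ ((hmem g₀).1 h)
  haveI : Algebra.Etale B₁ A₁ := ⟨inferInstance, Algebra.FinitePresentation.of_finiteType.1 inferInstance⟩
  -- the actions
  let act₀ : H → T₀ →ₐ[C₀] T₀ := fun g => Algebra.TensorProduct.map (AlgHom.id C₀ C₀) (MulSemiringAction.toAlgHom P A g)
  have act₀_ψ : ∀ g t, act₀ g (ψ t) = ψ (act g t) := fun g t => by
    induction t using TensorProduct.induction_on with
    | zero => simp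
    | tmul c a => rfl
    | add a b ha hb => simp only [map_add, ha, hb]
  have act₀_act₀ : ∀ g g' t, act₀ g (act₀ g' t) = act₀ (g * g') t := fun g g' t => by
    induction t using TensorProduct.induction_on with
    | zero => simp
    | tmul c a => show c ⊗ₜ[P] (g • g' • a) = c ⊗ₜ[P] ((g * g') • a); rw [mul_smul]
    | add a b ha hb => simp only [map_add, ha, hb]
  have act₀_one : ∀ t, act₀ 1 t = t := fun t => by
    induction t using TensorProduct.induction_on with
    | zero => simp
    | tmul c a => show c ⊗ₜ[P] ((1 : H) • a) = _; rw [one_smul]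
    | add a b ha hb => simp only [map_add, ha, hb]
  have act₀_J : ∀ g, J ≤ J.comap (act₀ g).toRingHom := fun g => by
    rw [Ideal.span_singleton_le_iff_mem]
    show act₀ g (1 - e₀) ∈ J
    rw [map_sub, map_one, act₀_ψ, hefix]
    exact Ideal.subset_span rfl
  let σ₀ : H → A₁ →+* A₁ := fun g => Ideal.quotientMap J (act₀ g).toRingHom (act₀_J g)
  have σ₀_mk : ∀ g t, σ₀ g (Ideal.Quotient.mk J t) = Ideal.Quotient.mk J (act₀ g t) := fun g t => rfl
  let σ : H →* (A₁ ≃+* A₁) :=
    { toFun := fun g =>
        { toFun := σ₀ g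
          invFun := σ₀ g⁻¹
          left_inv := fun w => by obtain ⟨t, rfl⟩ := Ideal.Quotient.mk_surjective w; simp [σ₀_mk, act₀_act₀, act₀_one]
          right_inv := fun w => by obtain ⟨t, rfl⟩ := Ideal.Quotient.mk_surjective w; simp [σ₀_mk, act₀_act₀, act₀_one]
          map_mul' := map_mul (σ₀ g)
          map_add' := map_add (σ₀ g) }
      map_one' := RingEquiv.ext fun w => by
        obtain ⟨t, rfl⟩ := Ideal.Quotient.mk_surjective w
        change σ₀ 1 (Ideal.Quotient.mk J t) = Ideal.Quotient.mk J t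
        rw [σ₀_mk, act₀_one]
      map_mul' := fun g g' => RingEquiv.ext fun w => by
        obtain ⟨t, rfl⟩ := Ideal.Quotient.mk_surjective w
        change σ₀ (g * g') (Ideal.Quotient.mk J t) = σ₀ g (σ₀ g' (Ideal.Quotient.mk J t))
        rw [σ₀_mk, σ₀_mk, σ₀_mk, act₀_act₀] }
  let τ : H → B₁ →+* B₁ := fun g =>
    (Algebra.TensorProduct.map (AlgHom.id P C₀) (MulSemiringAction.toAlgHom P B g)).toRingHom
  have hι : ∀ g b, act₀ g (ι b) = ι (τ g b) := fun g b => by
    induction b using TensorProduct.induction_on with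
    | zero => simp
    | tmul c b =>
      show c ⊗ₜ[P] (g • algebraMap B A b) = c ⊗ₜ[P] algebraMap B A (g • b)
      rw [hGeq]
    | add a b ha hb => simp only [map_add, ha, hb]
  obtain ⟨Pt, φ, hφi, hφ⟩ := exists_standard (C₀ := C₀) (B := B₁) (A := A₁) σ τ
    (fun g b => congrArg (Ideal.Quotient.mk J) (hι g b))
    (fun c g => by
      show Algebra.TensorProduct.map (AlgHom.id P C₀) _ (c ⊗ₜ[P] (1 : B)) = c ⊗ₜ[P] (1 : B)
      rw [Algebra.TensorProduct.map_tmul, map_one]; rfl)
    (fun b hb => by
      have h := (Groth.Agent.S12933.result P B H C₀ b).1 hb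
      clear hb
      induction h using Submodule.span_induction with
      | mem w hw =>
        obtain ⟨b', hb', rfl⟩ := hw
        obtain ⟨c, rfl⟩ := Algebra.IsInvariant.isInvariant (A := P) (G := H) b' hb'
        exact ⟨algebraMap P C₀ c, by
          show algebraMap P C₀ c ⊗ₜ[P] (1 : B) = (1 : C₀) ⊗ₜ[P] algebraMap P B c
          rw [Algebra.algebraMap_eq_smul_one, Algebra.algebraMap_eq_smul_one, TensorProduct.smul_tmul]⟩
      | zero => exact ⟨0, map_zero _⟩
      | add a b _ _ ha hb =>
        obtain ⟨c, rfl⟩ := ha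
        obtain ⟨c', rfl⟩ := hb
        exact ⟨c + c', map_add _ _ _⟩
      | smul r a _ ha =>
        obtain ⟨c, rfl⟩ := ha
        exact ⟨r * c, (map_mul _ _ _).trans (Algebra.smul_def r (algebraMap C₀ B₁ c)).symm⟩)
    (by
      have h := Module.Flat.lTensor_preserves_injective_linearMap (M := C₀) (Algebra.linearMap P B)
        (FaithfulSMul.algebraMap_injective P B)
      intro c c' hcc
      refine (TensorProduct.rid P C₀).symm.injective (h ?_)
      rw [TensorProduct.rid_symm_apply, TensorProduct.rid_symm_apply, LinearMap.lTensor_tmul, LinearMap.lTensor_tmul,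
        Algebra.linearMap_apply, map_one]
      exact hcc)
    (fun g w => by
      obtain ⟨t, rfl⟩ := Ideal.Quotient.mk_surjective w
      change σ₀ g (Ideal.Quotient.mk J t) - Ideal.Quotient.mk J t ∈ _
      rw [σ₀_mk, ← map_sub]
      induction t using TensorProduct.induction_on with
      | zero => rw [map_zero, sub_zero, map_zero]; exact Ideal.zero_mem _
      | tmul c a =>
        show Ideal.Quotient.mk J (c ⊗ₜ[P] (g • a) - c ⊗ₜ[P] a) ∈ _
        rw [← TensorProduct.tmul_sub, show c ⊗ₜ[P] (g • a - a) = (c ⊗ₜ[P] (1 : A)) * ((1 : C₀) ⊗ₜ[P] (g • a - a)) by simp,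
          map_mul]
        exact Ideal.mul_mem_left _ _ ((hmem _).2 (hin g a))
      | add a b ha hb => rw [map_add, add_sub_add_comm, map_add]; exact Ideal.add_mem _ ha hb)
  -- invariants
  let R₁ := C₀ ⊗[P] Q
  let j : R₁ →ₐ[C₀] T₀ := Algebra.TensorProduct.map (AlgHom.id C₀ C₀) (IsScalarTower.toAlgHom P Q A)
  have hj : Function.Injective j :=
    Module.Flat.lTensor_preserves_injective_linearMap (M := C₀) (IsScalarTower.toAlgHom P Q A).toLinearMap
      (FaithfulSMul.algebraMap_injective Q A)
  have hjfix : ∀ r g, act₀ g (j r) = j r := fun r g => by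
    induction r using TensorProduct.induction_on with
    | zero => simp
    | tmul c a => show c ⊗ₜ[P] (g • algebraMap Q A a) = c ⊗ₜ[P] algebraMap Q A a; rw [smul_algebraMap]
    | add a b ha hb => simp only [map_add, ha, hb]
  have hjrange : ∀ t, (∀ g, act₀ g t = t) → ∃ r, j r = t := fun t ht => by
    have h := (Groth.Agent.S12933.result P A H C₀ t).1 ht
    clear ht
    induction h using Submodule.span_induction with
    | mem w hw =>
      obtain ⟨a, ha, rfl⟩ := hw
      obtain ⟨c, rfl⟩ := Algebra.IsInvariant.isInvariant (A := Q) (G := H) a ha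
      exact ⟨1 ⊗ₜ c, rfl⟩
    | zero => exact ⟨0, map_zero _⟩
    | add a b _ _ ha hb =>
      obtain ⟨c, rfl⟩ := ha
      obtain ⟨c', rfl⟩ := hb
      exact ⟨c + c', map_add _ _ _⟩
    | smul r a _ ha =>
      obtain ⟨c, rfl⟩ := ha
      exact ⟨r • c, map_smul _ _ _⟩
  obtain ⟨eR, heR⟩ := hjrange e₀ fun g => by rw [act₀_ψ, hefix]
  have hπfix : ∀ r, Ideal.Quotient.mk J (j r) ∈ Set.range φ := fun r => (hφ _).2 fun g => by
    change σ₀ g (Ideal.Quotient.mk J (j r)) = _
    rw [σ₀_mk, hjfix]
  choose π hπ using hπfix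
  have e₀e₀ : e₀ * e₀ = e₀ := by rw [← map_mul, hee.eq]
  let πh : R₁ →ₐ[C₀] Pt.Ring :=
    { toFun := π
      map_one' := hφi (by rw [hπ, map_one, map_one, map_one])
      map_mul' := fun a b => hφi (by rw [hπ, map_mul, map_mul, map_mul, hπ, hπ])
      map_zero' := hφi (by rw [hπ, map_zero, map_zero, map_zero])
      map_add' := fun a b => hφi (by rw [hπ, map_add, map_add, map_add, hπ, hπ])
      commutes' := fun c => hφi (by rw [hπ, AlgHom.commutes, AlgHom.commutes]; rfl) }
  have hπsurj : Function.Surjective πh := fun w => by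
    obtain ⟨t, ht⟩ := Ideal.Quotient.mk_surjective (φ w)
    obtain ⟨r, hr⟩ := hjrange (e₀ * t) fun g => by
      have h1 := (hφ (φ w)).1 ⟨w, rfl⟩ g
      rw [← ht] at h1
      obtain ⟨d, hd⟩ := Ideal.mem_span_singleton.1 (Ideal.Quotient.eq.1 h1)
      rw [map_mul, act₀_ψ, hefix, ← sub_eq_zero, ← mul_sub, show act₀ g t - t = (1 - e₀) * d from hd, ← mul_assoc,
        mul_sub, mul_one, e₀e₀, sub_self, zero_mul]
    refine ⟨r, hφi ?_⟩
    show φ (π r) = _
    rw [hπ, hr, ← ht, Ideal.Quotient.eq]
    exact Ideal.mem_span_singleton.2 ⟨-t, by ring⟩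
  have hπker : RingHom.ker πh.toRingHom = Ideal.span {1 - eR} := by
    refine le_antisymm (fun r hr => ?_) (Ideal.span_le.2 ?_)
    · have h0 : Ideal.Quotient.mk J (j r) = 0 := by rw [← hπ, show π r = 0 from hr, map_zero]
      obtain ⟨d, hd⟩ := Ideal.mem_span_singleton.1 (Ideal.Quotient.eq_zero_iff_mem.1 h0)
      have h1 : r * eR = 0 := hj (by
        rw [map_mul, heR, map_zero, hd, mul_comm (1 - e₀) d, mul_assoc, sub_mul, one_mul, e₀e₀, sub_self, mul_zero])
      exact Ideal.mem_span_singleton.2 ⟨r, by linear_combination h1⟩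
    · rintro _ rfl
      refine hφi ?_
      show φ (π (1 - eR)) = φ 0
      rw [hπ, map_zero, map_sub, map_one, heR, Ideal.Quotient.eq_zero_iff_mem]
      exact Ideal.subset_span rfl
  have heRi : IsIdempotentElem eR := hj (by rw [map_mul, heR, e₀e₀])
  letI : Algebra R₁ Pt.Ring := πh.toRingHom.toAlgebra
  haveI : IsScalarTower C₀ R₁ Pt.Ring := .of_algebraMap_eq fun c => (πh.commutes c).symm
  haveI : IsLocalization.Away eR Pt.Ring := IsLocalization.away_of_isIdempotentElem heRi hπker hπsurj
  let M := (maximalIdeal A₁).comap φ.toRingHom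
  haveI : M.IsPrime := Ideal.comap_isPrime _ _
  let q₁ := M.comap (algebraMap R₁ Pt.Ring)
  haveI : q₁.IsPrime := Ideal.comap_isPrime _ _
  haveI : IsLocalization.AtPrime (Localization.AtPrime M) q₁ :=
    IsLocalization.isLocalization_isLocalization_atPrime_isLocalization (Submonoid.powers eR) _ M
  let eloc : Localization.AtPrime q₁ ≃ₐ[R₁] Localization.AtPrime M :=
    IsLocalization.algEquiv q₁.primeCompl _ _
  haveI : Algebra.FormallyEtale P C₀ := by
    haveI : Algebra.FormallyEtale C C₀ := .of_isLocalization z.primeCompl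
    exact .comp P C C₀
  haveI : Algebra.FormallyEtale C₀ (Localization.AtPrime M) := by
    haveI : Algebra.FormallyEtale Pt.Ring (Localization.AtPrime M) := .of_isLocalization M.primeCompl
    exact .comp C₀ Pt.Ring _
  haveI : Module.Flat C₀ (Localization.AtPrime M) := Module.Flat.trans C₀ Pt.Ring _
  haveI : Algebra.FormallyEtale C₀ (Localization.AtPrime q₁) := .of_equiv (eloc.restrictScalars C₀).symm
  haveI : Module.Flat C₀ (Localization.AtPrime q₁) := .of_linearEquiv (eloc.restrictScalars C₀).toLinearEquiv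
  letI : Algebra Q R₁ := Algebra.TensorProduct.rightAlgebra
  haveI : IsScalarTower P Q R₁ := .of_algebraMap_eq fun c => by
    show algebraMap P C₀ c ⊗ₜ[P] (1 : Q) = (1 : C₀) ⊗ₜ[P] algebraMap P Q c
    rw [Algebra.algebraMap_eq_smul_one, Algebra.algebraMap_eq_smul_one, TensorProduct.smul_tmul]
  let eQ : Q ⊗[P] C₀ ≃ₐ[Q] R₁ :=
    AlgEquiv.ofRingEquiv (f := (Algebra.TensorProduct.comm P Q C₀).toRingEquiv) fun a => rfl
  haveI : Algebra.FormallyEtale Q R₁ := .of_equiv eQ
  haveI : Module.Flat Q R₁ := .of_linearEquiv eQ.symm.toLinearEquiv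
  haveI : Algebra.FormallyEtale R₁ (Localization.AtPrime q₁) := .of_isLocalization q₁.primeCompl
  haveI : Algebra.FormallyEtale Q (Localization.AtPrime q₁) := .comp Q R₁ _
  haveI : Module.Flat Q (Localization.AtPrime q₁) := Module.Flat.trans Q R₁ _
  haveI : Algebra.FormallyEtale P (Localization.AtPrime q₁) := .comp P C₀ _
  haveI : Module.Flat P (Localization.AtPrime q₁) := Module.Flat.trans P C₀ _
  haveI : Algebra.FinitePresentation P Q := by
    haveI : Algebra.IsIntegral Q A := Algebra.IsInvariant.isIntegral Q A H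
    haveI : Algebra.FiniteType Q A := Algebra.FiniteType.of_restrictScalars_finiteType P Q A
    haveI : Module.Finite Q A := Algebra.IsIntegral.finite
    haveI : Algebra.FiniteType P Q := ⟨fg_of_fg_of_fg P Q A Algebra.FiniteType.out Module.Finite.fg_top
      (FaithfulSMul.algebraMap_injective Q A)⟩
    exact Algebra.FinitePresentation.of_finiteType.1 inferInstance
  have hq₁ : q₁.comap (algebraMap Q R₁) = x.comap (algebraMap Q A) := by
    ext a
    simp only [q₁, M, Ideal.mem_comap]
    rw [← hmem]
    show φ (π ((1 : C₀) ⊗ₜ[P] a)) ∈ _ ↔ _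
    rw [hπ]
    rfl
  have := isEtaleAt_descend (R := P) (S := Q) q₁
  simpa only [hq₁] using this

end Groth.Agent.InvEtale25
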