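import Groth.Agent.InvEtale25.Local
import Groth.Agent.GaloisTraceLib.Inertia
import Groth.Agent.HenselLib.LocalEtale

/-!
# Étaleness of invariants of a finite group at a point where inertia is preserved
-/

set_option autoImplicit false
set_option backward.isDefEq.respectTransparency.types false
set_option linter.style.haveILetI false
set_option maxHeartbeats 1000000

universe u

namespace Groth.Agent.InvEtale25

/-- The invariants of the inertia group are étale over the invariants at the point. -/
theorem exists_etale_inertia' (R A : Type u) [CommRing R] [CommRing A] [Algebra R A] (G : Type u) [Group G] [Finite G]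
    [MulSemiringAction G A] [SMulCommClass G R A] [Algebra.IsInvariant R A G] [FaithfulSMul R A]
    (x : Ideal A) [x.IsPrime] (H : Subgroup G) (hH : x.inertia G = H) :
    ∃ c : FixedPoints.subalgebra R A H, (c : A) ∉ x ∧ Algebra.Etale R (Localization.Away c) := by
  subst hH
  exact GaloisTraceLib.exists_etale_inertia R A G x

theorem isEtaleAt_invariants (R : Type u) [CommRing R]
    [IsNoetherianRing R] (A B : Type u) [CommRing A] [CommRing B] [Algebra R A] [Algebra R B]
    [Algebra.FiniteType R A] [Algebra.FiniteType R B]
    (G : Type u) [Group G] [Finite G] [MulSemiringAction G A] [MulSemiringAction G B]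
    [SMulCommClass G R A] [SMulCommClass G R B]
    [Algebra B A] [IsScalarTower R B A]
    (hGeq : ∀ (g : G) (b : B), algebraMap B A (g • b) = g • algebraMap B A b)
    [Algebra (FixedPoints.subalgebra R B G) (FixedPoints.subalgebra R A G)]
    [IsScalarTower (FixedPoints.subalgebra R B G) (FixedPoints.subalgebra R A G) A]
    (x : Ideal A) [x.IsPrime] (hx : Algebra.IsEtaleAt B x)
    (hin : x.inertia G = (x.comap (algebraMap B A)).inertia G) :
    Algebra.IsEtaleAt (FixedPoints.subalgebra R B G)
      (x.comap (algebraMap (FixedPoints.subalgebra R A G) A)) := by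
  let PG := FixedPoints.subalgebra R B G
  let QG := FixedPoints.subalgebra R A G
  haveI : Algebra.IsInvariant PG B G := ⟨fun b hb => ⟨⟨b, hb⟩, rfl⟩⟩
  haveI : Algebra.IsInvariant QG A G := ⟨fun a ha => ⟨⟨a, ha⟩, rfl⟩⟩
  haveI : FaithfulSMul PG B := (faithfulSMul_iff_algebraMap_injective _ _).2 Subtype.val_injective
  haveI : FaithfulSMul QG A := (faithfulSMul_iff_algebraMap_injective _ _).2 Subtype.val_injective
  haveI : SMulCommClass G PG B := ⟨fun g c b => by
    show g • ((c : B) * b) = (c : B) * g • b
    rw [smul_mul', c.2 g]⟩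
  haveI : SMulCommClass G QG A := ⟨fun g c b => by
    show g • ((c : A) * b) = (c : A) * g • b
    rw [smul_mul', c.2 g]⟩
  let y := x.comap (algebraMap B A)
  let H := x.inertia G
  obtain ⟨cB, hcB, hcBe⟩ := exists_etale_inertia' PG B G y H hin.symm
  obtain ⟨cA, hcA, hcAe⟩ := exists_etale_inertia' QG A G x H rfl
  let PH := FixedPoints.subalgebra PG B H
  let QH := FixedPoints.subalgebra QG A H
  let φH : PH →+* QH :=
    ((algebraMap B A).comp PH.val.toRingHom).codRestrict QH.toSubring fun b g => by
      show (g : G) • algebraMap B A (b : B) = algebraMap B A (b : B)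
      rw [← hGeq]
      exact congrArg (algebraMap B A) (b.2 g)
  letI : Algebra PH QH := RingHom.toAlgebra φH
  haveI : IsScalarTower PH QH A := IsScalarTower.of_algebraMap_eq (R := PH) (S := QH) (A := A) fun _ => rfl
  haveI : Algebra.IsInvariant PH B H := ⟨fun b hb => ⟨⟨b, hb⟩, rfl⟩⟩
  haveI : Algebra.IsInvariant QH A H := ⟨fun a ha => ⟨⟨a, ha⟩, rfl⟩⟩
  haveI : FaithfulSMul PH B := (faithfulSMul_iff_algebraMap_injective _ _).2 Subtype.val_injective
  haveI : FaithfulSMul QH A := (faithfulSMul_iff_algebraMap_injective _ _).2 Subtype.val_injective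
  haveI : SMulCommClass H PH B := ⟨fun g c b => by
    show (g : G) • ((c : B) * b) = (c : B) * (g : G) • b
    rw [smul_mul']
    exact congrArg (· * _) (c.2 g)⟩
  haveI : SMulCommClass H QH A := ⟨fun g c b => by
    show (g : G) • ((c : A) * b) = (c : A) * (g : G) • b
    rw [smul_mul']
    exact congrArg (· * _) (c.2 g)⟩
  haveI : SMulCommClass H PH A := ⟨fun g c b => by
    rw [← algebraMap_smul A c b, ← algebraMap_smul A c (g • b), smul_eq_mul, smul_eq_mul, smul_mul']
    congr 1
    show (g : G) • algebraMap B A (c : B) = algebraMap B A (c : B)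
    rw [← hGeq]
    exact congrArg (algebraMap B A) (c.2 g)⟩
  -- finiteness
  haveI : Algebra.IsIntegral PG B := Algebra.IsInvariant.isIntegral PG B G
  haveI : Algebra.FiniteType PG B := Algebra.FiniteType.of_restrictScalars_finiteType R PG B
  haveI : Module.Finite PG B := Algebra.IsIntegral.finite
  haveI : Algebra.FiniteType R PG := ⟨fg_of_fg_of_fg R PG B Algebra.FiniteType.out Module.Finite.fg_top
    Subtype.val_injective⟩
  haveI : IsNoetherianRing PG := Algebra.FiniteType.isNoetherianRing R PG
  haveI : Module.Finite PG PH := ⟨(Submodule.fg_top _).2 (IsNoetherian.noetherian PH.toSubmodule)⟩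
  haveI : IsNoetherianRing PH := IsNoetherianRing.of_finite PG PH
  haveI : Module.Finite PH B := Module.Finite.of_restrictScalars_finite PG PH B
  haveI : Algebra.IsIntegral QG A := Algebra.IsInvariant.isIntegral QG A G
  haveI : Algebra.FiniteType QG A := Algebra.FiniteType.of_restrictScalars_finiteType R QG A
  haveI : Module.Finite QG A := Algebra.IsIntegral.finite
  haveI : Algebra.FiniteType R QG := ⟨fg_of_fg_of_fg R QG A Algebra.FiniteType.out Module.Finite.fg_top
    Subtype.val_injective⟩
  haveI : IsNoetherianRing QG := Algebra.FiniteType.isNoetherianRing R QG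
  haveI : Algebra.FiniteType B A := Algebra.FiniteType.of_restrictScalars_finiteType R B A
  haveI : Module.Finite QG QH := ⟨(Submodule.fg_top _).2 (IsNoetherian.noetherian QH.toSubmodule)⟩
  haveI : Algebra.FinitePresentation QG QH := Algebra.FinitePresentation.of_finiteType.1 inferInstance
  haveI : Algebra.FinitePresentation PG PH := by
    exact Algebra.FinitePresentation.of_finiteType.1 inferInstance
  letI : Algebra PG QH := RingHom.toAlgebra ((algebraMap QG QH).comp (algebraMap PG QG))
  haveI : IsScalarTower PG QG QH := IsScalarTower.of_algebraMap_eq fun _ => rfl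
  haveI : IsScalarTower PG PH QH := IsScalarTower.of_algebraMap_eq fun c => Subtype.ext (by
    show ((algebraMap PG QG c : QG) : A) = algebraMap B A (c : B)
    have h := IsScalarTower.algebraMap_apply PG QG A c
    exact h.symm.trans (IsScalarTower.algebraMap_apply PG B A c))
  haveI : IsScalarTower R PG QG := IsScalarTower.of_algebraMap_eq fun r => Subtype.ext (by
    show algebraMap R A r = ((algebraMap PG QG (algebraMap R PG r) : QG) : A)
    have h := IsScalarTower.algebraMap_apply PG QG A (algebraMap R PG r)
    exact (IsScalarTower.algebraMap_apply R B A r).trans ((IsScalarTower.algebraMap_apply PG B A _).symm.trans h))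
  haveI : Algebra.FinitePresentation PG QG := by
    haveI : Algebra.FiniteType PG QG := Algebra.FiniteType.of_restrictScalars_finiteType R PG QG
    exact Algebra.FinitePresentation.of_finiteType.1 inferInstance
  haveI : Algebra.FinitePresentation PG QH := Algebra.FinitePresentation.trans PG QG QH
  let qH := x.comap (algebraMap QH A)
  let pH := y.comap (algebraMap PH B)
  haveI : qH.LiesOver pH := ⟨by
    simp only [qH, pH, y, Ideal.under, Ideal.comap_comap]
    rfl⟩
  haveI : Algebra.IsEtaleAt PH qH :=
    isEtaleAt_of_inertia_top (H := H) (fun g b => hGeq (g : G) b) x hx fun g a => g.2 a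
  haveI : Algebra.IsEtaleAt PG pH :=
    (Algebra.basicOpen_subset_etaleLocus_iff (R := PG) (f := cB)).2 hcBe.formallyEtale
      (show (⟨pH, inferInstance⟩ : PrimeSpectrum PH) ∈ PrimeSpectrum.basicOpen cB from hcB)
  haveI : Algebra.IsEtaleAt PG qH := Algebra.IsEtaleAt.comp (R := PG) pH qH
  haveI hQ : Algebra.IsEtaleAt QG qH :=
    (Algebra.basicOpen_subset_etaleLocus_iff (R := QG) (f := cA)).2 hcAe.formallyEtale
      (show (⟨qH, inferInstance⟩ : PrimeSpectrum QH) ∈ PrimeSpectrum.basicOpen cA from hcA)
  haveI : Module.Flat QG (Localization.AtPrime qH) := HenselLib.LocalEtale.flat_localization_of_isEtaleAt QG QH qH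
  haveI : Module.Flat PG (Localization.AtPrime qH) := HenselLib.LocalEtale.flat_localization_of_isEtaleAt PG QH qH
  have h := isEtaleAt_descend (R := PG) (S := QG) qH
  simpa only [qH, Ideal.comap_comap, ← IsScalarTower.algebraMap_eq QG QH A] using h

end Groth.Agent.InvEtale25
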